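import Groth.Agent.Comod.Reductive
import Mathlib.RingTheory.Bialgebra.TensorProduct
import Mathlib.RingTheory.Bialgebra.MonoidAlgebra

/-!
# Linear reductivity and extension of the base field
-/

set_option autoImplicit false
set_option backward.isDefEq.respectTransparency false

universe u
open TensorProduct Coalgebra Groth.Agent.Comod
noncomputable section

namespace Groth.Agent.LRBC

variable {k K A : Type u} [Field k] [Field K] [Algebra k K] [CommRing A] [HopfAlgebra k A]

/-- `x ⊗ y ↦ (1 ⊗ x) ⊗ (1 ⊗ y)`. -/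
def dd : A ⊗[k] A →+* (K ⊗[k] A) ⊗[K] (K ⊗[k] A) :=
  Algebra.TensorProduct.mapRingHom (algebraMap k K)
    (RingHomClass.toRingHom (Algebra.TensorProduct.includeRight : A →ₐ[k] K ⊗[k] A))
    (RingHomClass.toRingHom (Algebra.TensorProduct.includeRight : A →ₐ[k] K ⊗[k] A))
    (by simp [← IsScalarTower.algebraMap_eq]) (by simp [← IsScalarTower.algebraMap_eq])

theorem dd_tmul (x y : A) : dd (K := K) (x ⊗ₜ[k] y) = ((1 : K) ⊗ₜ[k] x) ⊗ₜ[K] ((1 : K) ⊗ₜ[k] y) := by
  simp [dd]

theorem comul_one_tmul (a : A) :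
    comul (R := K) ((1 : K) ⊗ₜ[k] a) = dd (K := K) (comul (R := k) a) :=
  RingHom.congr_fun (Bialgebra.comul_includeRight (R := k) (A := K) (B := A)) a

theorem cL_dd (L : (K ⊗[k] A) →ₗ[K] K) (t : A ⊗[k] A) :
    cL L (dd t) = TensorProduct.map ((L.restrictScalars k) ∘ₗ TensorProduct.mk k K A 1) LinearMap.id t := by
  induction t using TensorProduct.induction_on with
  | zero => simp
  | tmul x y => simp [dd_tmul, TensorProduct.smul_tmul']
  | add x y hx hy => simp only [map_add, hx, hy]

theorem of_baseChange (L : (K ⊗[k] A) →ₗ[K] K) (h1 : L 1 = 1) (hL : ∀ a, LeftInvAt L a) :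
    ∃ l : A →ₗ[k] k, l 1 = 1 ∧ ∀ a, LeftInvAt l a := by
  obtain ⟨π, hπ⟩ := (Algebra.linearMap k K).exists_leftInverse_of_injective
    (LinearMap.ker_eq_bot.mpr (algebraMap k K).injective)
  refine ⟨π ∘ₗ (L.restrictScalars k) ∘ₗ TensorProduct.mk k K A 1, ?_, fun a => ?_⟩
  · have := LinearMap.congr_fun hπ 1
    simpa [← Algebra.TensorProduct.one_def, h1] using this
  let P : K ⊗[k] A →ₗ[k] A := (TensorProduct.lid k A).toLinearMap ∘ₗ π.rTensor A
  have e := congrArg P (hL ((1 : K) ⊗ₜ[k] a))
  rw [comul_one_tmul, cL_dd] at e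
  have h : ∀ t : A ⊗[k] A, P (TensorProduct.map ((L.restrictScalars k) ∘ₗ TensorProduct.mk k K A 1) LinearMap.id t) =
      cL (π ∘ₗ (L.restrictScalars k) ∘ₗ TensorProduct.mk k K A 1) t := by
    intro t
    induction t using TensorProduct.induction_on with
    | zero => simp
    | tmul x y => simp [P]
    | add x y hx hy => simp only [map_add, hx, hy]
  rw [h] at e
  rw [LeftInvAt, e]
  simp [P, Algebra.TensorProduct.algebraMap_apply, Algebra.algebraMap_eq_smul_one, Algebra.TensorProduct.one_def, TensorProduct.smul_tmul']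

theorem baseChange {l : A →ₗ[k] k} (h1 : l 1 = 1) (hl : ∀ a, LeftInvAt l a) :
    ∃ L : (K ⊗[k] A) →ₗ[K] K, L 1 = 1 ∧ ∀ a, LeftInvAt L a := by
  refine ⟨(TensorProduct.AlgebraTensorModule.rid k K K).toLinearMap ∘ₗ l.baseChange K, ?_, fun a => ?_⟩
  · simp [Algebra.TensorProduct.one_def, h1]
  induction a using TensorProduct.induction_on with
  | zero => simp [LeftInvAt]
  | add x y hx hy => simp only [LeftInvAt, map_add] at hx hy ⊢; rw [hx, hy]
  | tmul c a =>
    have hc : c ⊗ₜ[k] a = c • ((1 : K) ⊗ₜ[k] a) := by simp [TensorProduct.smul_tmul']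
    have h : ∀ t : A ⊗[k] A, cL ((TensorProduct.AlgebraTensorModule.rid k K K).toLinearMap ∘ₗ l.baseChange K) (dd t) =
        (1 : K) ⊗ₜ[k] cL l t := by
      intro t
      induction t using TensorProduct.induction_on with
      | zero => simp
      | tmul x y => simp [dd_tmul, TensorProduct.smul_tmul']
      | add x y hx hy => simp only [map_add, hx, hy, TensorProduct.tmul_add]
    rw [LeftInvAt, hc, map_smul, map_smul, comul_one_tmul, h, hl a]
    simp [Algebra.algebraMap_eq_smul_one, Algebra.TensorProduct.one_def, TensorProduct.smul_tmul']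

theorem isLinearlyReductive_iff :
    HopfRep.IsLinearlyReductive k A ↔ HopfRep.IsLinearlyReductive K (K ⊗[k] A) := by
  constructor
  · intro h
    obtain ⟨l, h1, hl⟩ := exists_integral h
    obtain ⟨L, hL1, hL⟩ := baseChange (K := K) h1 hl
    exact isLinearlyReductive_of_localIntegral _ _ fun _ => ⟨L, hL1, fun a _ => hL a⟩
  · intro h
    obtain ⟨L, h1, hL⟩ := exists_integral h
    obtain ⟨l, hl1, hl⟩ := of_baseChange L h1 hL
    exact isLinearlyReductive_of_localIntegral _ _ fun _ => ⟨l, hl1, fun a _ => hl a⟩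

/-- Group algebras carry an integral, and so does anything isomorphic to one. -/
theorem isLinearlyReductive_of_equiv {G : Type} [CommGroup G] {B : Type u} [CommRing B] [HopfAlgebra K B]
    (e : B ≃ₐc[K] MonoidAlgebra K G) : HopfRep.IsLinearlyReductive K B := by
  classical
  let l : MonoidAlgebra K G →ₗ[K] K :=
    { toFun := fun f => f.coeff 1
      map_add' := fun _ _ => by simp
      map_smul' := fun _ _ => by simp }
  have hl : ∀ f : MonoidAlgebra K G, cL l (comul (R := K) f) = algebraMap K _ (l f) := by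
    intro f
    induction f using MonoidAlgebra.induction_linear with
    | zero => simp
    | add f g hf hg => simp only [map_add, hf, hg]
    | single g r =>
      by_cases h : g = 1
      · subst h; simp [l, MonoidAlgebra.comul_single, MonoidAlgebra.smul_single, MonoidAlgebra.one_def]
      · simp [l, MonoidAlgebra.comul_single, Finsupp.single_apply, h]
  refine isLinearlyReductive_of_localIntegral _ _ fun _ => ⟨l ∘ₗ (e : B →ₗ[K] MonoidAlgebra K G), ?_, fun b _ => ?_⟩
  · simp [l, MonoidAlgebra.one_def]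
  apply EquivLike.injective e
  have h : ∀ t : B ⊗[K] B, e (cL (l ∘ₗ (e : B →ₗ[K] MonoidAlgebra K G)) t) =
      cL l (TensorProduct.map (e : B →ₗ[K] MonoidAlgebra K G) (e : B →ₗ[K] MonoidAlgebra K G) t) := by
    intro t
    induction t using TensorProduct.induction_on with
    | zero => simp
    | tmul x y => simp
    | add x y hx hy => simp only [map_add, hx, hy]
  refine (h _).trans ?_
  have := CoalgHomClass.map_comp_comul_apply e b
  rw [show TensorProduct.map (e : B →ₗ[K] MonoidAlgebra K G) (e : B →ₗ[K] MonoidAlgebra K G) (comul (R := K) b) =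
    comul (R := K) (e b) from this, hl]
  exact ((e : B ≃ₐ[K] MonoidAlgebra K G).commutes _).symm

end Groth.Agent.LRBC
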